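import Groth.Agent.NormFieldX.Props
import Groth.Agent.NagataLib.Field
import Mathlib.AlgebraicGeometry.Morphisms.QuasiFinite
import Mathlib.AlgebraicGeometry.Properties
import Mathlib.AlgebraicGeometry.Morphisms.Finite

/-!
# Finite normalization of curves in a finite extension
-/

universe u

open CategoryTheory AlgebraicGeometry TopologicalSpace

set_option backward.isDefEq.respectTransparency false
set_option backward.isDefEq.respectTransparency.types false

namespace Groth.Agent.NormFieldX

lemma exists_algebra (k : Type u) [Field k] (X : Scheme.{u}) (q : X ⟶ Spec (CommRingCat.of k))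
    [LocallyOfFiniteType q] {U : X.Opens} (hU : IsAffineOpen U) :
    ∃ ψ : k →+* Γ(X, U), ψ.FiniteType := by
  refine ⟨(q.appLE ⊤ U (by simp)).hom.comp (Scheme.ΓSpecIso (CommRingCat.of k)).inv.hom, ?_⟩
  exact RingHom.FiniteType.comp
    (HasRingHomProperty.appLE @LocallyOfFiniteType q inferInstance ⟨⊤, isAffineOpen_top _⟩ ⟨U, hU⟩ (by simp))
    (RingHom.FiniteType.of_surjective _
      (Scheme.ΓSpecIso (CommRingCat.of k)).commRingCatIsoToRingEquiv.symm.surjective)

variable {X : Scheme.{u}} [IsIntegral X] {K : Type u} [Field K] {φ : X.functionField →+* K}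
  [QuasiCompact (pnt X K φ)] [QuasiSeparated (pnt X K φ)]

theorem isFinite_ν (k : Type u) [Field k] (q : X ⟶ Spec (CommRingCat.of k)) [LocallyOfFiniteType q]
    (hφ : φ.Finite) : IsFinite (ν X K φ) := by
  refine ⟨fun U hU => ?_⟩
  rcases (U : Set X).eq_empty_or_nonempty with he | ⟨x, hx⟩
  · have e : U = ⊥ := Opens.ext he
    subst e
    haveI : Subsingleton Γ(norm X K φ, ν X K φ ⁻¹ᵁ ⊥) := by
      rw [Scheme.Hom.preimage_bot]; infer_instance
    exact RingHom.Finite.of_surjective _ fun z => ⟨0, Subsingleton.elim _ _⟩
  have hη := genericPoint_mem_of_nonempty hx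
  obtain ⟨ψ, hψ⟩ := exists_algebra k X q hU
  let A := Γ(X, U)
  letI : Algebra k A := ψ.toAlgebra
  haveI : Algebra.FiniteType k A := hψ
  letI : Algebra A X.functionField := (X.presheaf.germ U (genericPoint X) hη).hom.toAlgebra
  haveI : Nonempty U := ⟨⟨x, hx⟩⟩
  haveI : IsFractionRing A X.functionField := functionField_isFractionRing_of_isAffineOpen X U hU
  let ee : FractionRing A ≃ₐ[A] X.functionField := IsLocalization.algEquiv (nonZeroDivisors A) _ _
  let ρ : FractionRing A →+* K := φ.comp ee.toRingEquiv.toRingHom
  have hρ : ρ.Finite := hφ.comp (RingHom.Finite.of_surjective _ ee.surjective)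
  letI : Algebra A K := (baseHom φ hη).toAlgebra
  letI : Algebra (FractionRing A) K := ρ.toAlgebra
  haveI : IsScalarTower A (FractionRing A) K := IsScalarTower.of_algebraMap_eq fun a => by
    show φ (algebraMap A X.functionField a) = φ (ee (algebraMap A (FractionRing A) a))
    rw [ee.commutes]
  haveI hfin : Module.Finite A (integralClosure A K) := NagataLib.isN2_of_finiteType k A K hρ
  let e := secEquiv (K := K) (φ := φ) hU hη
  have h2 : ((ν X K φ).app U).hom = e.symm.toRingHom.comp (algebraMap A (integralClosure A K)) :=
    RingHom.ext fun a => by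
      show _ = e.symm _
      rw [RingEquiv.eq_symm_apply]
      exact Subtype.ext (evalK_app hη a)
  show ((ν X K φ).app U).hom.Finite
  rw [h2]
  exact (RingHom.Finite.of_surjective _ e.symm.surjective).comp (RingHom.finite_algebraMap.2 inferInstance)

theorem dim_stalk_norm (hX : ∀ x : X, IsClosed ({x} : Set X) → ringKrullDim (X.presheaf.stalk x) = 1)
    [IsFinite (ν X K φ)] (x' : norm X K φ) (hx' : IsClosed ({x'} : Set (norm X K φ))) :
    ringKrullDim ((norm X K φ).presheaf.stalk x') = 1 := by
  let N := norm X K φ
  have hc : IsClosed ({ν X K φ x'} : Set X) := by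
    rw [← Set.image_singleton]
    exact (ν X K φ).isClosedMap _ hx'
  have h1 : Order.coheight (ν X K φ x') = 1 := by
    have := hX _ hc
    rw [ringKrullDim_stalk_eq_coheight] at this
    exact_mod_cast this
  have hne : x' ≠ genericPoint N := fun h => by
    have h2 : ν X K φ x' = genericPoint X := by
      rw [h, ← η_eq X K φ, ν_η]
    rw [h2, Order.coheight_eq_zero.2 (fun y _ => genericPoint_specializes y)] at h1
    exact zero_ne_one h1
  have hmax : ∀ y : N, x' < y → IsMax y := fun y hy => by
    have hs : y ⤳ x' := hy.le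
    have hs' : ν X K φ y ⤳ ν X K φ x' := hs.map (ν X K φ).continuous
    by_cases heq : ν X K φ y = ν X K φ x'
    · exfalso
      have hd := (ν X K φ).isDiscrete_preimage_singleton (ν X K φ x')
      haveI : DiscreteTopology ↥((ν X K φ) ⁻¹' {ν X K φ x'}) := hd.to_subtype
      have : (⟨y, heq⟩ : ↥((ν X K φ) ⁻¹' {ν X K φ x'})) ⤳ ⟨x', rfl⟩ :=
        Topology.IsInducing.subtypeVal.specializes_iff.1 hs
      exact hy.not_ge (le_of_eq (congrArg Subtype.val (specializes_iff_eq.1 this)))
    · have hlt : ν X K φ x' < ν X K φ y := lt_of_le_not_ge hs' fun h => heq (Specializes.antisymm (x := ν X K φ x') h hs').eq.symm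
      have h0 : Order.coheight (ν X K φ y) < 1 := by
        have := Order.coheight_strictAnti hlt
          ((Order.coheight_anti hlt.le).trans_lt (by rw [h1]; exact ENat.one_lt_top))
        rw [h1] at this
        exact this
      have h00 : Order.coheight (ν X K φ y) = 0 := by
        exact ENat.lt_one_iff_eq_zero.1 h0
      have hy' : ν X K φ y = genericPoint X :=
        ((genericPoint_specializes (ν X K φ y)).antisymm
          (Order.coheight_eq_zero.1 h00 (genericPoint_specializes _))).eq.symm
      have : y ∈ (ν X K φ) ⁻¹' {genericPoint X} := hy'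
      rw [preimage_genericPoint] at this
      rw [show y = genericPoint N from this]
      exact fun z _ => genericPoint_specializes z
  rw [ringKrullDim_stalk_eq_coheight]
  norm_cast
  apply le_antisymm
  · rw [← Nat.cast_one, Order.coheight_le_coe_iff]
    intro y hy
    rw [Order.coheight_eq_zero.2 (hmax y hy)]
    exact zero_lt_one
  · rw [ENat.one_le_iff_ne_zero, Order.coheight_ne_zero]
    exact fun h => hne ((genericPoint_specializes x').antisymm
      (h (show x' ≤ genericPoint N from genericPoint_specializes x'))).eq.symm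

end Groth.Agent.NormFieldX
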