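import Groth.Prelude.Def_Pi1
import Mathlib.AlgebraicGeometry.Normalization
import Mathlib.AlgebraicGeometry.FunctionField
import Mathlib.AlgebraicGeometry.Stalk
import Mathlib.RingTheory.IntegralClosure.IntegrallyClosed
import Mathlib.RingTheory.Localization.Integral
import Mathlib.RingTheory.DedekindDomain.IntegralClosure

/-!
# Normalization of an integral scheme in a field extension of its function field
-/

universe u

open CategoryTheory AlgebraicGeometry TopologicalSpace

set_option backward.isDefEq.respectTransparency false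
set_option backward.isDefEq.respectTransparency.types false

namespace Groth.Agent.NormFieldX

lemma isIntegrallyClosed_integralClosure (A K : Type u) [CommRing A] [Field K] [Algebra A K] :
    IsIntegrallyClosed (integralClosure A K) := by
  let C := integralClosure A K
  have hinj : Function.Injective C.val.toRingHom := Subtype.val_injective
  let j : FractionRing C →+* K := IsFractionRing.lift hinj
  refine (isIntegrallyClosed_iff (FractionRing C)).2 fun {z} hz => ?_
  have h1 : IsIntegral C (j z) := by
    obtain ⟨P, hP, hPz⟩ := hz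
    refine ⟨P, hP, ?_⟩
    have h2 := congrArg j hPz
    rw [Polynomial.hom_eval₂, map_zero] at h2
    rwa [show j.comp (algebraMap C (FractionRing C)) = algebraMap C K from
      RingHom.ext fun c => IsFractionRing.lift_algebraMap hinj c] at h2
  haveI : Algebra.IsIntegral A C := IsIntegralClosure.isIntegral_algebra A K
  refine ⟨⟨j z, isIntegral_trans (A := C) (j z) h1⟩, j.injective ?_⟩
  exact IsFractionRing.lift_algebraMap hinj _

variable (X : Scheme.{u}) [IsIntegral X] (K : Type u) [Field K] (φ : X.functionField →+* K)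

/-- The point of `X` with values in `K`. -/
noncomputable def pnt : Spec (CommRingCat.of K) ⟶ X :=
  Spec.map (CommRingCat.ofHom φ) ≫ X.fromSpecStalk (genericPoint X)

lemma pnt_apply (z : Spec (CommRingCat.of K)) : pnt X K φ z = genericPoint X := by
  have hz : z = IsLocalRing.closedPoint K := Subsingleton.elim _ _
  subst hz
  have : IsLocalHom (CommRingCat.ofHom φ).hom := inferInstanceAs (IsLocalHom φ)
  rw [pnt, Scheme.Hom.comp_apply]
  erw [Spec_closedPoint, Scheme.fromSpecStalk_closedPoint]

variable [QuasiCompact (pnt X K φ)] [QuasiSeparated (pnt X K φ)]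

/-- The normalization. -/
noncomputable abbrev norm : Scheme.{u} := (pnt X K φ).normalization

/-- Its structure map. -/
noncomputable abbrev ν : norm X K φ ⟶ X := (pnt X K φ).fromNormalization

/-- The image of the point of `K`. -/
noncomputable abbrev η : norm X K φ := (pnt X K φ).toNormalization (IsLocalRing.closedPoint K)

lemma ν_η : ν X K φ (η X K φ) = genericPoint X := by
  rw [← Scheme.Hom.comp_apply, Scheme.Hom.toNormalization_fromNormalization, pnt_apply]

lemma η_eq : η X K φ = genericPoint (norm X K φ) := by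
  have hd := (pnt X K φ).toNormalization.denseRange.closure_range
  have hr : Set.range (pnt X K φ).toNormalization = {η X K φ} := by
    ext x
    constructor
    · rintro ⟨z, rfl⟩
      rw [show z = IsLocalRing.closedPoint K from Subsingleton.elim _ _]
      rfl
    · rintro rfl
      exact ⟨_, rfl⟩
  rw [hr] at hd
  exact IsGenericPoint.eq hd (genericPoint_spec _)

variable {X K φ} {U : X.Opens}

/-- Evaluation at the point of `K`. -/
noncomputable def evalK (hη : genericPoint X ∈ U) : Γ(norm X K φ, ν X K φ ⁻¹ᵁ U) →+* K :=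
  (((norm X K φ).presheaf.germ (ν X K φ ⁻¹ᵁ U) (η X K φ) (by
    show ν X K φ (η X K φ) ∈ U
    rw [ν_η]; exact hη)) ≫ Scheme.stalkClosedPointTo (pnt X K φ).toNormalization).hom

lemma evalK_app (hη : genericPoint X ∈ U) (a : Γ(X, U)) :
    evalK hη ((ν X K φ).app U a) = φ (X.presheaf.germ U (genericPoint X) hη a) := by
  haveI : IsLocalHom (CommRingCat.ofHom φ).hom := inferInstanceAs (IsLocalHom φ)
  have hU : pnt X K φ (IsLocalRing.closedPoint K) ∈ U := by rw [pnt_apply]; exact hη
  have h1 : X.presheaf.germ U _ hU ≫ Scheme.stalkClosedPointTo (pnt X K φ) =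
      (ν X K φ).app U ≫ CommRingCat.ofHom (evalK (K := K) (φ := φ) hη) := by
    have h2 : X.presheaf.germ U ((ν X K φ) (η X K φ)) (by rw [ν_η]; exact hη) ≫
        Scheme.stalkClosedPointTo ((pnt X K φ).toNormalization ≫ ν X K φ) =
        (ν X K φ).app U ≫ CommRingCat.ofHom (evalK (K := K) (φ := φ) hη) := by
      rw [Scheme.stalkClosedPointTo_comp, Scheme.Hom.germ_stalkMap_assoc]
      rfl
    have gen : ∀ (f' : Spec (CommRingCat.of K) ⟶ X) (_ : f' = pnt X K φ)
        (h' : f' (IsLocalRing.closedPoint K) ∈ U),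
        X.presheaf.germ U _ h' ≫ Scheme.stalkClosedPointTo f' =
          X.presheaf.germ U _ hU ≫ Scheme.stalkClosedPointTo (pnt X K φ) := by
      rintro _ rfl h'; rfl
    exact (gen _ (pnt X K φ).toNormalization_fromNormalization _).symm.trans h2
  have h3 := Scheme.germ_stalkClosedPointTo_Spec_fromSpecStalk (R := CommRingCat.of K)
    (CommRingCat.ofHom φ) U (show pnt X K φ (IsLocalRing.closedPoint K) ∈ U from hU)
  exact (ConcreteCategory.congr_hom h1 a).symm.trans (ConcreteCategory.congr_hom h3 a)

/-- Sections over the preimage of an affine open are the integral closure. -/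
lemma evalK_injective_and_mem_range (hU : IsAffineOpen U) (hη : genericPoint X ∈ U) :
    Function.Injective (evalK (K := K) (φ := φ) hη) ∧
      ∀ y : K, y ∈ Set.range (evalK (K := K) (φ := φ) hη) ↔
        (φ.comp (X.presheaf.germ U (genericPoint X) hη).hom).IsIntegralElem y := by
  haveI : IsLocalHom (CommRingCat.ofHom φ).hom := inferInstanceAs (IsLocalHom φ)
  let g := pnt X K φ
  have hU' : g (IsLocalRing.closedPoint K) ∈ U := by rw [pnt_apply]; exact hη
  have hV : g.toNormalization (IsLocalRing.closedPoint K) ∈ ν X K φ ⁻¹ᵁ U := by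
    show ν X K φ (η X K φ) ∈ U
    rw [ν_η]; exact hη
  letI := (g.app U).hom.toAlgebra
  let σ : Γ(Spec (CommRingCat.of K), g ⁻¹ᵁ U) ≅ CommRingCat.of K :=
    (Spec (CommRingCat.of K)).presheaf.mapIso
      (eqToIso (Scheme.preimage_eq_top_of_closedPoint_mem g hU').symm).op ≪≫ Scheme.ΓSpecIso _
  have hσ : g.app U ≫ σ.hom = X.presheaf.germ U (genericPoint X) hη ≫ CommRingCat.ofHom φ :=
    (Scheme.germ_stalkClosedPointTo g U hU').symm.trans
      (Scheme.germ_stalkClosedPointTo_Spec_fromSpecStalk (R := CommRingCat.of K) (CommRingCat.ofHom φ) U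
        (show g (IsLocalRing.closedPoint K) ∈ U from hU'))
  have hsq : g ⁻¹ᵁ U = g.toNormalization ⁻¹ᵁ g.fromNormalization ⁻¹ᵁ U := by
    rw [← Scheme.Hom.comp_preimage, Scheme.Hom.toNormalization_fromNormalization]
  have he : CommRingCat.ofHom (evalK (K := K) (φ := φ) hη) =
      (g.normalizationObjIso hU).hom ≫
        CommRingCat.ofHom (Subalgebra.val (integralClosure Γ(X, U) Γ(Spec (CommRingCat.of K), g ⁻¹ᵁ U))).toRingHom ≫
          σ.hom := by
    rw [← Category.assoc, g.normalizationObjIso_hom_val hU]
    show (norm X K φ).presheaf.germ (ν X K φ ⁻¹ᵁ U) _ hV ≫ Scheme.stalkClosedPointTo g.toNormalization = _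
    rw [Scheme.germ_stalkClosedPointTo, Scheme.Hom.appLE, Category.assoc]
    congr 1
  have hb1 : Function.Bijective (g.normalizationObjIso hU).hom :=
    (ConcreteCategory.isIso_iff_bijective _).1 inferInstance
  have hb2 : Function.Bijective σ.hom := (ConcreteCategory.isIso_iff_bijective _).1 inferInstance
  have hfun : ⇑(evalK (K := K) (φ := φ) hη) =
      (⇑σ.hom ∘ Subtype.val) ∘ (g.normalizationObjIso hU).hom :=
    funext fun c => ConcreteCategory.congr_hom he c
  refine ⟨by rw [hfun]; exact (hb2.1.comp Subtype.val_injective).comp hb1.1, fun y => ?_⟩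
  rw [hfun, hb1.2.range_comp]
  have hτ : σ.hom.hom.comp (algebraMap Γ(X, U) Γ(Spec (CommRingCat.of K), g ⁻¹ᵁ U)) =
      φ.comp (X.presheaf.germ U (genericPoint X) hη).hom := congrArg CommRingCat.Hom.hom hσ
  obtain ⟨z, rfl⟩ := hb2.2 y
  rw [← hτ]
  constructor
  · rintro ⟨⟨w, hw⟩, h⟩
    obtain rfl : w = z := hb2.1 h
    obtain ⟨P, hP, hPw⟩ := hw
    exact ⟨P, hP, by rw [← Polynomial.hom_eval₂, hPw, map_zero]⟩
  · rintro ⟨P, hP, hPz⟩
    refine ⟨⟨z, P, hP, hb2.1 ?_⟩, rfl⟩
    rw [map_zero]
    exact (Polynomial.hom_eval₂ P _ σ.hom.hom z).trans hPz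

end Groth.Agent.NormFieldX
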