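import Groth.Agent.NormFieldX.Basic

/-!
# Normality and function field of the normalization in a field
-/

universe u

open CategoryTheory AlgebraicGeometry TopologicalSpace

set_option backward.isDefEq.respectTransparency false
set_option backward.isDefEq.respectTransparency.types false

namespace Groth.Agent.NormFieldX

variable {X : Scheme.{u}} [IsIntegral X] {K : Type u} [Field K] {φ : X.functionField →+* K}
  [QuasiCompact (pnt X K φ)] [QuasiSeparated (pnt X K φ)] {U : X.Opens}

/-- The map from sections to `K`. -/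
noncomputable abbrev baseHom (φ : X.functionField →+* K) (hη : genericPoint X ∈ U) : Γ(X, U) →+* K :=
  φ.comp (X.presheaf.germ U (genericPoint X) hη).hom

/-- Sections over the preimage of an affine open as an integral closure. -/
noncomputable def secEquiv (hU : IsAffineOpen U) (hη : genericPoint X ∈ U) :
    letI := (baseHom φ hη).toAlgebra
    Γ(norm X K φ, ν X K φ ⁻¹ᵁ U) ≃+* integralClosure Γ(X, U) K :=
  letI := (baseHom φ hη).toAlgebra
  RingEquiv.ofBijective
    ((evalK (K := K) (φ := φ) hη).codRestrict (integralClosure Γ(X, U) K).toSubring fun c =>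
      ((evalK_injective_and_mem_range hU hη).2 _).1 ⟨c, rfl⟩)
    ⟨fun a b h => (evalK_injective_and_mem_range hU hη).1 (congrArg Subtype.val h), fun y => by
      obtain ⟨c, hc⟩ := ((evalK_injective_and_mem_range hU hη).2 y.1).2 y.2
      exact ⟨c, Subtype.ext hc⟩⟩

lemma genericPoint_mem_of_nonempty {x : X} (hx : x ∈ U) : genericPoint X ∈ U :=
  (genericPoint_specializes x).mem_open U.isOpen hx

theorem isNormalScheme_norm : Pi1.IsNormalScheme (norm X K φ) := by
  intro y
  obtain ⟨_, ⟨U, hU, rfl⟩, hyU, -⟩ := X.isBasis_affineOpens.exists_subset_of_mem_open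
    (Set.mem_univ (ν X K φ y)) isOpen_univ
  have hη := genericPoint_mem_of_nonempty hyU
  letI := (baseHom φ hη).toAlgebra
  let e := secEquiv (K := K) (φ := φ) hU hη
  let C := Γ(norm X K φ, ν X K φ ⁻¹ᵁ U)
  haveI : IsDomain C := e.toMulEquiv.isDomain
  haveI : IsIntegrallyClosed (integralClosure Γ(X, U) K) := isIntegrallyClosed_integralClosure _ _
  haveI : IsIntegrallyClosed C := IsIntegrallyClosed.of_equiv e.symm
  have hW : IsAffineOpen (ν X K φ ⁻¹ᵁ U) := hU.preimage _
  letI := (norm X K φ).presheaf.algebra_section_stalk (⟨y, hyU⟩ : (ν X K φ ⁻¹ᵁ U))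
  haveI := hW.isLocalization_stalk (⟨y, hyU⟩ : (ν X K φ ⁻¹ᵁ U))
  let p := (hW.primeIdealOf ⟨y, hyU⟩).asIdeal
  haveI : IsDomain ((norm X K φ).presheaf.stalk y) :=
    IsLocalization.isDomain_of_le_nonZeroDivisors (R := C) _ p.primeCompl_le_nonZeroDivisors
  exact ⟨inferInstance, isIntegrallyClosed_of_isLocalization _ p.primeCompl p.primeCompl_le_nonZeroDivisors⟩

theorem preimage_genericPoint :
    ν X K φ ⁻¹' {genericPoint X} = {genericPoint (norm X K φ)} := by
  refine Set.eq_singleton_iff_unique_mem.2 ⟨by rw [← η_eq]; exact ν_η X K φ, fun y hy => ?_⟩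
  obtain ⟨_, ⟨U, hU, rfl⟩, hη, -⟩ := X.isBasis_affineOpens.exists_subset_of_mem_open
    (Set.mem_univ (genericPoint X)) isOpen_univ
  have hyU : y ∈ ν X K φ ⁻¹ᵁ U := by
    show ν X K φ y ∈ U
    rw [show ν X K φ y = genericPoint X from hy]
    exact hη
  have hW : IsAffineOpen (ν X K φ ⁻¹ᵁ U) := hU.preimage _
  let C := Γ(norm X K φ, ν X K φ ⁻¹ᵁ U)
  let ψ : Γ(X, U) →+* C := ((ν X K φ).app U).hom
  letI := ψ.toAlgebra
  haveI : IsDomain C := by
    haveI : Nonempty (ν X K φ ⁻¹ᵁ U : (norm X K φ).Opens) := ⟨⟨y, hyU⟩⟩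
    infer_instance
  haveI : Algebra.IsIntegral Γ(X, U) C := ⟨(ν X K φ).isIntegral_app U hU⟩
  have hgy : genericPoint (norm X K φ) ∈ ν X K φ ⁻¹ᵁ U :=
    (genericPoint_specializes y).mem_open (ν X K φ ⁻¹ᵁ U).isOpen hyU
  suffices hQ : (hW.primeIdealOf ⟨y, hyU⟩).asIdeal = ⊥ by
    haveI : Nonempty (ν X K φ ⁻¹ᵁ U : (norm X K φ).Opens) := ⟨⟨y, hyU⟩⟩
    have h1 := hW.fromSpec_primeIdealOf ⟨y, hyU⟩
    have h2 : hW.primeIdealOf ⟨y, hyU⟩ = hW.primeIdealOf ⟨genericPoint (norm X K φ), hgy⟩ := by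
      rw [hW.primeIdealOf_genericPoint, genericPoint_eq_bot_of_affine]
      exact PrimeSpectrum.ext hQ
    rw [h2, hW.fromSpec_primeIdealOf] at h1
    exact h1.symm
  haveI : Nonempty U := ⟨⟨_, hη⟩⟩
  refine Ideal.eq_bot_of_comap_eq_bot (R := Γ(X, U)) (eq_bot_iff.2 fun a ha => ?_)
  have hnu : ¬ IsUnit ((norm X K φ).presheaf.germ _ y hyU (ψ a)) := by
    letI := (norm X K φ).presheaf.algebra_section_stalk (⟨y, hyU⟩ : (ν X K φ ⁻¹ᵁ U))
    haveI := hW.isLocalization_stalk (⟨y, hyU⟩ : (ν X K φ ⁻¹ᵁ U))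
    exact fun h => ((IsLocalization.AtPrime.isUnit_to_map_iff
      ((norm X K φ).presheaf.stalk y) (hW.primeIdealOf ⟨y, hyU⟩).asIdeal (ψ a)).1 h) ha
  have hνy : ν X K φ y ∈ U := hyU
  rw [show ψ a = (ν X K φ).app U a from rfl, ← Scheme.Hom.germ_stalkMap_apply _ _ _ hνy] at hnu
  have h3 : ¬ IsUnit (X.presheaf.germ U (ν X K φ y) hνy a) := fun h => hnu (h.map _)
  rw [Ideal.mem_bot]
  by_contra hne
  refine h3 ?_
  have key : ∀ (z : X) (hz : z ∈ U) (_ : z = genericPoint X), IsUnit (X.presheaf.germ U z hz a) := by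
    rintro z hz rfl
    refine (show IsUnit (show X.functionField from X.presheaf.germ U (genericPoint X) hz a) from
      isUnit_iff_ne_zero.2 fun h => hne ?_)
    exact germ_injective_of_isIntegral X (genericPoint X) hz (h.trans (map_zero _).symm)
  exact key _ hνy hy

variable (X K φ) in
theorem range_stalkClosedPointTo :
    Function.Injective (Scheme.stalkClosedPointTo (pnt X K φ).toNormalization).hom ∧
      Set.range (Scheme.stalkClosedPointTo (pnt X K φ).toNormalization).hom =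
        {y : K | ∃ q : Polynomial X.functionField, q.Monic ∧ Polynomial.eval₂ φ y q = 0} := by
  obtain ⟨_, ⟨U, hU, rfl⟩, hη, -⟩ := X.isBasis_affineOpens.exists_subset_of_mem_open
    (Set.mem_univ (genericPoint X)) isOpen_univ
  letI := φ.toAlgebra
  let A := Γ(X, U)
  let F := X.functionField
  letI : Algebra A F := (X.presheaf.germ U (genericPoint X) hη).hom.toAlgebra
  letI : Algebra A K := (baseHom φ hη).toAlgebra
  haveI : IsScalarTower A F K := IsScalarTower.of_algebraMap_eq fun _ => rfl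
  haveI : Nonempty U := ⟨⟨_, hη⟩⟩
  haveI : IsFractionRing A F := functionField_isFractionRing_of_isAffineOpen X U hU
  let S := (norm X K φ).presheaf.stalk (η X K φ)
  let ψ : S →+* K := (Scheme.stalkClosedPointTo (pnt X K φ).toNormalization).hom
  have hW : IsAffineOpen (ν X K φ ⁻¹ᵁ U) := hU.preimage _
  let C := Γ(norm X K φ, ν X K φ ⁻¹ᵁ U)
  have hηW : η X K φ ∈ ν X K φ ⁻¹ᵁ U := by
    show ν X K φ (η X K φ) ∈ U
    rw [ν_η]; exact hη
  letI := (norm X K φ).presheaf.algebra_section_stalk (⟨η X K φ, hηW⟩ : (ν X K φ ⁻¹ᵁ U))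
  haveI := hW.isLocalization_stalk (⟨η X K φ, hηW⟩ : (ν X K φ ⁻¹ᵁ U))
  have hfield : IsField S := by
    show IsField ((norm X K φ).presheaf.stalk (η X K φ))
    rw [η_eq]
    exact Field.toIsField (norm X K φ).functionField
  have hinj : Function.Injective ψ := by
    letI := hfield.toField
    exact ψ.injective
  refine ⟨hinj, Set.ext fun y => ⟨?_, fun hy => ?_⟩⟩
  · rintro ⟨z, rfl⟩
    obtain ⟨⟨c, s⟩, hcs⟩ := IsLocalization.surj (hW.primeIdealOf ⟨η X K φ, hηW⟩).asIdeal.primeCompl z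
    have hint : ∀ d : C, IsIntegral F (evalK (K := K) (φ := φ) hη d) := fun d =>
      IsIntegral.tower_top (R := A) (((evalK_injective_and_mem_range hU hη).2 _).1 ⟨d, rfl⟩)
    have hs : evalK (K := K) (φ := φ) hη s.1 ≠ 0 :=
      ((IsLocalization.map_units S s).map ψ).ne_zero
    have h : ψ z * evalK (K := K) (φ := φ) hη s.1 = evalK (K := K) (φ := φ) hη c := by
      have := congrArg ψ hcs
      rwa [map_mul] at this
    have hz : IsIntegral F (ψ z) := by
      rw [eq_div_of_mul_eq hs h, div_eq_mul_inv]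
      exact (hint c).mul (hint s.1).inv
    exact hz
  · have hy' : IsIntegral F y := hy
    obtain ⟨⟨a, ha⟩, hm⟩ := hy'.exists_multiple_integral_of_isLocalization (nonZeroDivisors A) y
    obtain ⟨c, hc⟩ := ((evalK_injective_and_mem_range hU hη).2 _).2 hm
    have ha0 : baseHom φ hη a ≠ 0 := by
      rw [RingHom.comp_apply, map_ne_zero_iff _ φ.injective]
      exact IsFractionRing.to_map_ne_zero_of_mem_nonZeroDivisors (K := F) ha
    let sc : S := (norm X K φ).presheaf.germ _ _ hηW c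
    let sa : S := (norm X K φ).presheaf.germ _ _ hηW ((ν X K φ).app U a)
    have hsa : ψ sa = baseHom φ hη a := evalK_app hη a
    have hsa0 : sa ≠ 0 := fun h => ha0 (by rw [← hsa, h, map_zero])
    obtain ⟨si, hsi⟩ := hfield.mul_inv_cancel hsa0
    refine ⟨sc * si, ?_⟩
    have h1 : ψ sc = baseHom φ hη a * y := hc.trans (Algebra.smul_def a y)
    have h2 : baseHom φ hη a * ψ si = 1 := by rw [← hsa, ← map_mul, hsi, map_one]
    show ψ (sc * si) = y
    rw [map_mul, h1, mul_comm (baseHom φ hη a) y, mul_assoc, h2, mul_one]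

end Groth.Agent.NormFieldX
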